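import Groth.Agent.DelIll.K776.Intf
import Groth.Agent.Ega3B.TFunBC
import Mathlib.Algebra.Homology.ShortComplex.ModuleCat

/-!
# Homology of a base changed complex as a subquotient

* `hq_congr`: functoriality of `Hq`;
* `hq_homology`: the homology of a complex of modules is `Hq`;
* `cpx`: a complex of finite projective modules in degrees `≤ 0` as a `Cpx`;
* `exists_equiv`: `H_{-j}(A ⊗ P) ≃ H^j(A ⊗ C)`.
-/

set_option autoImplicit false
universe u
open CategoryTheory CategoryTheory.Limits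
open scoped TensorProduct

namespace K347.GC

open K776.Intf Groth.Agent.Ega3B

section Hq

variable {A M N M' N' : Type*} [CommRing A] [AddCommGroup M] [AddCommGroup N] [Module A M] [Module A N]
  [AddCommGroup M'] [AddCommGroup N'] [Module A M'] [Module A N']

theorem hq_congr (B : Submodule A M) (f : M →ₗ[A] N) (B' : Submodule A M') (f' : M' →ₗ[A] N')
    (e : M ≃ₗ[A] M') (e' : N ≃ₗ[A] N') (hf : ∀ x, e' (f x) = f' (e x)) (hB : ∀ x, x ∈ B ↔ e x ∈ B') :
    Nonempty (Hq B f ≃ₗ[A] Hq B' f') := by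
  have hk : (LinearMap.ker f).map (e : M →ₗ[A] M') = LinearMap.ker f' := by
    ext y
    constructor
    · rintro ⟨x, hx, rfl⟩
      have h1 : f x = 0 := hx
      have h2 := hf x
      rw [h1, map_zero] at h2
      exact h2.symm
    · intro hy
      refine ⟨e.symm y, ?_, e.apply_symm_apply y⟩
      have h1 : f' y = 0 := hy
      have h2 := hf (e.symm y)
      rw [e.apply_symm_apply, h1] at h2
      exact e'.map_eq_zero_iff.1 h2
  refine ⟨Submodule.Quotient.equiv _ _ (e.ofSubmodules (LinearMap.ker f) (LinearMap.ker f') hk) ?_⟩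
  ext y
  constructor
  · rintro ⟨x, hx, rfl⟩
    exact (hB x.1).1 hx
  · intro hy
    refine ⟨(e.ofSubmodules (LinearMap.ker f) (LinearMap.ker f') hk).symm y, ?_,
      LinearEquiv.apply_symm_apply _ y⟩
    refine (hB _).2 ?_
    have h1 : e ((e.ofSubmodules (LinearMap.ker f) (LinearMap.ker f') hk).symm y).1 = y.1 :=
      congrArg Subtype.val (LinearEquiv.apply_symm_apply (e.ofSubmodules _ _ hk) y)
    change e ((e.ofSubmodules (LinearMap.ker f) (LinearMap.ker f') hk).symm y).1 ∈ B'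
    rw [h1]
    exact hy

end Hq

theorem hq_homology {A : Type u} [CommRing A] (K : ChainComplex (ModuleCat.{u} A) ℤ) (i₁ i i₂ : ℤ)
    (h₁ : i + 1 = i₁) (h₂ : i₂ + 1 = i) :
    Nonempty (K.homology i ≃ₗ[A] Hq (LinearMap.range (K.d i₁ i).hom) (K.d i i₂).hom) := by
  have e1 : K.homology i ≅ (K.sc' i₁ i i₂).homology :=
    K.homologyIsoSc' i₁ i i₂ (by subst h₁; simp) (by subst h₂; simp)
  have e2 := (e1 ≪≫ (K.sc' i₁ i i₂).moduleCatHomologyIso).toLinearEquiv
  refine ⟨e2.trans (Submodule.quotEquivOfEq _ _ ?_)⟩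
  ext x
  constructor
  · rintro ⟨y, rfl⟩
    exact ⟨y, rfl⟩
  · rintro ⟨y, hy⟩
    exact ⟨y, Subtype.ext hy⟩

variable {R : Type u} [CommRing R] (P : ChainComplex (ModuleCat.{u} R) ℤ)
  (hP : ∀ i, Module.Finite R (P.X i) ∧ Module.Projective R (P.X i)) (b : ℤ)
  (hb : ∀ i, (i < b ∨ 0 < i) → IsZero (P.X i))

theorem subsingleton_of_isZero {M : ModuleCat.{u} R} (h : IsZero M) : Subsingleton M :=
  ModuleCat.isZero_iff_subsingleton.1 h

/-- A complex in degrees `≤ 0` as a cochain complex. -/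
noncomputable def cpx : Cpx R where
  P j := P.X (-(j : ℤ))
  fin j := (hP _).1
  proj j := (hP _).2
  N := (-b).toNat
  zero j hj := subsingleton_of_isZero (hb _ (Or.inl (by omega)))
  d j := (P.d (-(j : ℤ)) (-((j + 1 : ℕ) : ℤ))).hom
  dd j x := by
    have h := P.d_comp_d (-(j : ℤ)) (-((j + 1 : ℕ) : ℤ)) (-((j + 1 + 1 : ℕ) : ℤ))
    exact congrArg (fun φ => φ.hom x) h

variable {A : Type u} [CommRing A] (φ : R →+* A)

/-- `A ⊗ M`. -/
noncomputable def extE (M : ModuleCat.{u} R) :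
    letI := φ.toAlgebra
    (ModuleCat.extendScalars φ).obj M ≃ₗ[A] A ⊗[R] M :=
  letI := φ.toAlgebra
  { toFun := fun x => x
    invFun := fun x => x
    left_inv := fun _ => rfl
    right_inv := fun _ => rfl
    map_add' := fun _ _ => rfl
    map_smul' := fun _ _ => rfl }

theorem exists_equiv (j : ℕ) :
    Nonempty ((CohIII.bcCx φ P).homology (-(j : ℤ)) ≃ₗ[A] (cpx P hP b hb).H φ j) := by
  let _ := φ.toAlgebra
  cases j with
  | zero =>
    obtain ⟨e1⟩ := hq_homology (CohIII.bcCx φ P) 1 (-((0 : ℕ) : ℤ)) (-((0 + 1 : ℕ) : ℤ)) (by simp) (by simp)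
    have hB : ∀ x : (CohIII.bcCx φ P).X (-((0 : ℕ) : ℤ)),
        x ∈ LinearMap.range ((CohIII.bcCx φ P).d 1 (-((0 : ℕ) : ℤ))).hom ↔
          extE φ (P.X (-((0 : ℕ) : ℤ))) x ∈ (cpx P hP b hb).bd A 0 := by
      intro x
      have h0 : Subsingleton (P.X 1) := subsingleton_of_isZero (hb 1 (Or.inr one_pos))
      have h1 : Subsingleton (A ⊗[R] (P.X 1)) := inferInstance
      constructor
      · rintro ⟨y, rfl⟩
        have hy : y = 0 := h1.elim y 0
        rw [hy, map_zero]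
        exact (Submodule.zero_mem _)
      · intro hx
        have hx' : extE φ (P.X (-((0 : ℕ) : ℤ))) x = 0 := (Submodule.mem_bot A).1 hx
        have hx'' : x = 0 := hx'
        rw [hx'']
        exact Submodule.zero_mem _
    obtain ⟨e2⟩ := hq_congr (LinearMap.range ((CohIII.bcCx φ P).d 1 (-((0 : ℕ) : ℤ))).hom)
      ((CohIII.bcCx φ P).d (-((0 : ℕ) : ℤ)) (-((0 + 1 : ℕ) : ℤ))).hom ((cpx P hP b hb).bd A 0)
      (((cpx P hP b hb).d 0).baseChange A) (extE φ (P.X (-((0 : ℕ) : ℤ)))) (extE φ (P.X (-((0 + 1 : ℕ) : ℤ))))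
      (fun x => rfl) hB
    exact ⟨e1.trans e2⟩
  | succ j =>
    obtain ⟨e1⟩ := hq_homology (CohIII.bcCx φ P) (-(j : ℤ)) (-((j + 1 : ℕ) : ℤ)) (-((j + 1 + 1 : ℕ) : ℤ))
      (by push_cast; ring) (by push_cast; ring)
    have hB : ∀ x : (CohIII.bcCx φ P).X (-((j + 1 : ℕ) : ℤ)),
        x ∈ LinearMap.range ((CohIII.bcCx φ P).d (-(j : ℤ)) (-((j + 1 : ℕ) : ℤ))).hom ↔
          extE φ (P.X (-((j + 1 : ℕ) : ℤ))) x ∈ (cpx P hP b hb).bd A (j + 1) := by
      intro x
      constructor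
      · rintro ⟨y, rfl⟩
        exact ⟨extE φ (P.X (-(j : ℤ))) y, rfl⟩
      · rintro ⟨y, hy⟩
        exact ⟨(extE φ (P.X (-(j : ℤ)))).symm y, hy⟩
    obtain ⟨e2⟩ := hq_congr (LinearMap.range ((CohIII.bcCx φ P).d (-(j : ℤ)) (-((j + 1 : ℕ) : ℤ))).hom)
      ((CohIII.bcCx φ P).d (-((j + 1 : ℕ) : ℤ)) (-((j + 1 + 1 : ℕ) : ℤ))).hom ((cpx P hP b hb).bd A (j + 1))
      (((cpx P hP b hb).d (j + 1)).baseChange A) (extE φ (P.X (-((j + 1 : ℕ) : ℤ))))
      (extE φ (P.X (-((j + 1 + 1 : ℕ) : ℤ)))) (fun x => rfl) hB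
    exact ⟨e1.trans e2⟩

end K347.GC
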