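import Groth.Agent.DelIll.K347.CxAlg
import Groth.Agent.Ega3B.Master
import Groth.Agent.Ega3B.FibreCmp
import Groth.Agent.Ega3B.SplitCx

/-!
# (GC) Cohomology and base change in terms of one complex
-/

set_option autoImplicit false
universe u
open CategoryTheory CategoryTheory.Limits AlgebraicGeometry
open scoped TensorProduct

namespace K347.GC

open K776.Intf Groth.Agent.Ega3B Groth.Agent

section

variable {R : Type u} [CommRing R] {A : Type u} [CommRing A] (φ : R →+* A)

/-- `A` as an `R`-module, in two ways. -/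
noncomputable def ofHom :
    letI := φ.toAlgebra
    ModuleCat.of R A ⟶ TFunBC.resB φ :=
  letI := φ.toAlgebra
  ModuleCat.ofHom (X := ModuleCat.of R A) (Y := TFunBC.resB φ)
    { toFun := fun m => m
      map_add' := fun _ _ => rfl
      map_smul' := fun _ (_ : A) => rfl }

instance : IsIso (ofHom φ) := by
  rw [ConcreteCategory.isIso_iff_bijective]
  exact Function.bijective_id

theorem mulB_ofHom (b : A) :
    letI := φ.toAlgebra
    FibreIso.mulB R b ≫ ofHom φ = ofHom φ ≫ TFunBC.mulB φ b := rfl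

theorem exists_TFun (P : ChainComplex (ModuleCat.{u} R) ℤ) (i : ℤ) :
    letI := φ.toAlgebra
    ∃ e : (CohIII.TFun P i).obj (ModuleCat.of R A) ≃+ (CohIII.bcCx φ P).homology i,
      ∀ (a : A) (x : (CohIII.TFun P i).obj (ModuleCat.of R A)),
        e (((CohIII.TFun P i).map (FibreIso.mulB R a)).hom x) = a • e x := by
  let _ := φ.toAlgebra
  let e1 : (CohIII.TFun P i).obj (ModuleCat.of R A) ≃ₗ[R] (CohIII.tensorObj P (TFunBC.resB φ)).homology i :=
    ((CohIII.TFun P i).mapIso (asIso (ofHom φ))).toLinearEquiv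
  let e2 : (ModuleCat.restrictScalars φ).obj ((CohIII.bcCx φ P).homology i) ≃ₗ[R]
      (CohIII.tensorObj P (TFunBC.resB φ)).homology i := (TFunBC.homologyIso φ P i).toLinearEquiv
  have h1 : ∀ (a : A) (x : (CohIII.TFun P i).obj (ModuleCat.of R A)),
      e1 (((CohIII.TFun P i).map (FibreIso.mulB R a)).hom x) =
        (HomologicalComplex.homologyMap (CohIII.tensorMap P (TFunBC.mulB φ a)) i).hom (e1 x) := by
    intro a x
    have h : (CohIII.TFun P i).map (FibreIso.mulB R a) ≫ (CohIII.TFun P i).map (ofHom φ) =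
        (CohIII.TFun P i).map (ofHom φ) ≫ (CohIII.TFun P i).map (TFunBC.mulB φ a) :=
      ((CohIII.TFun P i).map_comp _ _).symm.trans
        ((congrArg (CohIII.TFun P i).map (mulB_ofHom φ a)).trans ((CohIII.TFun P i).map_comp _ _))
    exact congrArg (fun f => f.hom x) h
  have h2 : ∀ (a : A) (y : (ModuleCat.restrictScalars φ).obj ((CohIII.bcCx φ P).homology i)),
      e2 ((show (ModuleCat.restrictScalars φ).obj ((CohIII.bcCx φ P).homology i) from
        a • (show (CohIII.bcCx φ P).homology i from y))) =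
        (HomologicalComplex.homologyMap (CohIII.tensorMap P (TFunBC.mulB φ a)) i).hom (e2 y) := by
    intro a y
    exact congrArg (fun f => f.hom y) (TFunBC.homologyIso_smul φ P i a)
  refine ⟨(e1.trans e2.symm).toAddEquiv, fun a x => ?_⟩
  apply e2.injective
  refine (e2.apply_symm_apply _).trans ?_
  refine (h1 a x).trans ?_
  have h3 := h2 a (e2.symm (e1 x))
  rw [e2.apply_symm_apply] at h3
  exact h3.symm

end

theorem main : K776.Intf.GCStmt.{u} := by
  intro R _ _ X f _ F hF hfl
  let iX : X.Over (Spec (CommRingCat.of R)) := ⟨f⟩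
  have hpr : IsProper (X ↘ Spec (CommRingCat.of R)) := ‹IsProper f›
  obtain ⟨P, hP, ⟨b, hb⟩, hT, -⟩ := Master.exists_complex' X F hF hfl
  have hP' : ∀ i, Module.Finite R (P.X i) ∧ Module.Projective R (P.X i) := fun i => by
    obtain ⟨h1, h2⟩ := hP i
    have h3 : Module.FinitePresentation R (P.X i) := Module.finitePresentation_of_finite R _
    exact ⟨h1, SplitCx.projective_of_flat _⟩
  refine ⟨cpx P hP' b hb, fun A _ φ Y g q H j => ?_⟩
  let _ := φ.toAlgebra
  obtain ⟨e1, he1⟩ := FibreCmp.exists_cmp (A := R) (B := A) g q H F hF.1 j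
  obtain ⟨e2⟩ := hT j
  obtain ⟨e3, he3⟩ := exists_TFun φ P (-(j : ℤ))
  obtain ⟨e4⟩ := exists_equiv P hP' b hb φ j
  let e5 : Coh.HH Y ((Scheme.Modules.pullback g).obj F) j ≃+ (CohIII.TFun P (-(j : ℤ))).obj (ModuleCat.of R A) :=
    e1.trans (e2.app (ModuleCat.of R A)).addCommGroupIsoToAddEquiv
  have he5 : ∀ (a : A) (x : Coh.HH Y ((Scheme.Modules.pullback g).obj F) j),
      e5 (Coh.toGlobal q a • x) = ((CohIII.TFun P (-(j : ℤ))).map (FibreIso.mulB R a)).hom (e5 x) := by
    intro a x
    have h1 := e2.hom.naturality (FibreIso.mulB R a)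
    have h2 := congr($(h1) (e1 x))
    change (e2.hom.app _).hom (e1 _) = _
    rw [he1]
    exact h2
  let _ := modHH q ((Scheme.Modules.pullback g).obj F) j
  let e6 : Coh.HH Y ((Scheme.Modules.pullback g).obj F) j ≃ₗ[A] (CohIII.bcCx φ P).homology (-(j : ℤ)) :=
    { e5.trans e3 with
      map_smul' := fun a x => (congrArg e3 (he5 a x)).trans (he3 a (e5 x)) }
  exact ⟨(e6.trans e4).symm⟩

end K347.GC
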